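import Mathlib
import Groth.Agent.S12708

/-!
Lengths of the local rings of `L ⊗ F` for a finite field extension `L` are powers of the
exponential characteristic.
-/

open TensorProduct IsLocalRing

namespace Groth.Agent.RelCycLib

universe u

theorem lengthSelf_congr {A B : Type u} [CommRing A] [CommRing B] (e : A ≃+* B) :
    Module.length A A = Module.length B B := by
  apply WithBot.coe_injective
  rw [Module.coe_length, Module.coe_length]
  haveI : RingHomInvPair (e : A →+* B) (e.symm : B →+* A) := RingHomInvPair.of_ringEquiv e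
  haveI : RingHomInvPair (e.symm : B →+* A) (e : A →+* B) := RingHomInvPair.of_ringEquiv_symm e
  exact Order.krullDim_eq_of_orderIso (Submodule.orderIsoMapComap
    ({ e.toAddEquiv with map_smul' := fun c x => map_mul e c x } : A ≃ₛₗ[(e : A →+* B)] B))

theorem exists_length_dvd_finrank (E A : Type u) [Field E] [CommRing A] [IsLocalRing A]
    [Algebra E A] [Module.Finite E A] :
    ∃ l : ℕ, Module.length A A = (l : ℕ∞) ∧ l ∣ Module.finrank E A := by
  haveI : IsNoetherianRing A := IsNoetherianRing.of_finite E A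
  haveI : IsArtinianRing A := IsArtinianRing.of_finite E A
  have hne : Module.length A A ≠ ⊤ := Module.length_ne_top
  obtain ⟨l, hl⟩ := ENat.ne_top_iff_exists.mp hne
  haveI : Module.Finite E (ResidueField A) :=
    Module.Finite.of_surjective (IsScalarTower.toAlgHom E A (ResidueField A)).toLinearMap
      residue_surjective
  have h := S12708.result (Λ := E) (k := ResidueField A) A residue_surjective A
  rw [← hl, Module.length_eq_finrank, Module.length_eq_finrank, ← Nat.cast_mul, Nat.cast_inj] at h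
  exact ⟨l, hl.symm, Dvd.intro_left _ h⟩

/-- A purely inseparable finite extension base changed to a field is local, and its length divides
the degree. -/
theorem length_tensor_purelyInseparable (M E L : Type u) [Field M] [CommRing E] (hE : IsField E)
    [Field L] [Algebra M E] [Algebra M L] [FiniteDimensional M L] [IsPurelyInseparable M L] :
    (∀ z : E ⊗[M] L, IsUnit z ∨ IsNilpotent z) ∧ IsLocalRing (E ⊗[M] L) ∧ ∀ p : ℕ, ExpChar M p →
      ∃ n : ℕ, Module.length (E ⊗[M] L) (E ⊗[M] L) = ((p ^ n : ℕ) : ℕ∞) := by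
  haveI : Nontrivial E := hE.nontrivial
  haveI : Nontrivial (E ⊗[M] L) :=
    (Algebra.TensorProduct.includeLeft_injective (S := M) (algebraMap M L).injective).nontrivial
      (f := Algebra.TensorProduct.includeLeft (R := M) (S := M) (A := E) (B := L))
  have hdich : ∀ z : E ⊗[M] L, IsUnit z ∨ IsNilpotent z := by
    intro z
    obtain ⟨n, hn, e, he⟩ := IsPurelyInseparable.exists_pow_mem_range_tensorProduct (R := E) (k := M) z
    by_cases h0 : e = 0
    · exact Or.inr ⟨n, by rw [← he, h0, map_zero]⟩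
    · exact Or.inl ((isUnit_pow_iff hn.ne').mp (he ▸ (IsUnit.map (algebraMap E (E ⊗[M] L)) (by
        obtain ⟨y, hy⟩ := hE.mul_inv_cancel h0
        exact IsUnit.of_mul_eq_one _ hy))))
  have hloc : IsLocalRing (E ⊗[M] L) := IsLocalRing.of_nonunits_add fun a b ha hb => by
    rw [mem_nonunits_iff] at ha hb ⊢
    exact fun hu => ((Commute.all a b).isNilpotent_add ((hdich a).resolve_left ha)
      ((hdich b).resolve_left hb)).not_isUnit hu
  refine ⟨hdich, hloc, fun p _ => ?_⟩
  obtain ⟨l, hl, hdvd⟩ : ∃ l : ℕ, Module.length (E ⊗[M] L) (E ⊗[M] L) = (l : ℕ∞) ∧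
      l ∣ Module.finrank E (E ⊗[M] L) := by
    letI := hE.toField
    exact exists_length_dvd_finrank E (E ⊗[M] L)
  obtain ⟨n, hn⟩ := IsPurelyInseparable.finrank_eq_pow M L p
  rw [Module.finrank_baseChange, hn] at hdvd
  rcases ‹ExpChar M p› with _ | ⟨hprime⟩
  · rw [one_pow, Nat.dvd_one] at hdvd
    exact ⟨0, by rw [hl, hdvd, pow_zero]⟩
  · obtain ⟨m, -, hm⟩ := (Nat.dvd_prime_pow hprime).mp hdvd
    exact ⟨m, by rw [hl, hm]⟩

/-- The local ring of `F ⊗ L` at a prime over a point of `F ⊗ M` with residue ring `E`. -/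
theorem length_localization_of_quotient (L₀ F M L : Type u) [Field L₀] [Field F] [Field M] [Field L]
    [Algebra L₀ F] [Algebra L₀ M] [Algebra L₀ L] [Algebra M L] [IsScalarTower L₀ M L]
    [FiniteDimensional M L] [IsPurelyInseparable M L] (p : ℕ) [ExpChar M p]
    (q : Ideal (F ⊗[L₀] L)) [q.IsPrime]
    (E : Type u) [CommRing E] (hE : IsField E) [Algebra L₀ E] [Algebra M E] [IsScalarTower L₀ M E]
    (r : F ⊗[L₀] M →ₐ[L₀] E) (hr : Function.Surjective r)
    (hrM : ∀ m, r (1 ⊗ₜ m) = algebraMap M E m) (e : F ⊗[L₀] M)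
    (heQ : Algebra.TensorProduct.map (AlgHom.id L₀ F) (IsScalarTower.toAlgHom L₀ M L) e ∉ q)
    (he : ∀ x, r x = 0 → e * x = 0) :
    ∃ n : ℕ, Module.length (Localization.AtPrime q) (Localization.AtPrime q) = ((p ^ n : ℕ) : ℕ∞) := by
  let ι : F ⊗[L₀] M →ₐ[L₀] F ⊗[L₀] L :=
    Algebra.TensorProduct.map (AlgHom.id L₀ F) (IsScalarTower.toAlgHom L₀ M L)
  obtain ⟨hdich, hloc, hlen⟩ := length_tensor_purelyInseparable M E L hE
  haveI := hloc
  let jF : F →ₐ[L₀] E ⊗[M] L :=
    ((Algebra.TensorProduct.includeLeft : E →ₐ[L₀] E ⊗[M] L).comp r).comp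
      Algebra.TensorProduct.includeLeft
  let jL : L →ₐ[L₀] E ⊗[M] L :=
    (Algebra.TensorProduct.includeRight : L →ₐ[M] E ⊗[M] L).restrictScalars L₀
  let π : F ⊗[L₀] L →ₐ[L₀] E ⊗[M] L :=
    Algebra.TensorProduct.lift jF jL fun a b => mul_comm (jF a) (jL b)
  have hπι : ∀ s, π (ι s) = (r s) ⊗ₜ[M] (1 : L) := by
    intro s
    induction s using TensorProduct.induction_on with
    | zero => simp
    | tmul f m =>
      show π (f ⊗ₜ[L₀] (algebraMap M L m)) = _
      simp only [π, Algebra.TensorProduct.lift_tmul, jF, jL, AlgHom.comp_apply,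
        Algebra.TensorProduct.includeLeft_apply, AlgHom.restrictScalars_apply,
        Algebra.TensorProduct.includeRight_apply, 
        Algebra.TensorProduct.tmul_mul_tmul, mul_one, one_mul]
      rw [show (algebraMap M L m) = m • (1 : L) by rw [Algebra.smul_def, mul_one], ← TensorProduct.smul_tmul]
      congr 1
      rw [Algebra.smul_def, ← hrM, ← map_mul, Algebra.TensorProduct.tmul_mul_tmul, one_mul, mul_one]
    | add a b ha hb => simp only [map_add, ha, hb, TensorProduct.add_tmul]
  have hker : ∀ z, π z = 0 → ι e * z = 0 := by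
    intro z
    -- a left inverse of `π` up to `e`
    let g : E →+ F ⊗[L₀] L := AddMonoidHom.liftOfSurjective r.toRingHom.toAddMonoidHom hr
      ⟨(ι.toRingHom.toAddMonoidHom).comp (AddMonoidHom.mulLeft e), fun x hx => by
        show ι (e * x) = 0
        rw [he x hx, map_zero]⟩
    have hg : ∀ x, g (r x) = ι (e * x) := fun x =>
      AddMonoidHom.liftOfRightInverse_comp_apply _ _ _ _ x
    have hgl : ∀ (a : M) (x : E) (l : L), g (a • x) * (1 ⊗ₜ[L₀] l) = g x * (1 ⊗ₜ[L₀] (a • l)) := by
      intro a x l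
      obtain ⟨x, rfl⟩ := hr x
      rw [show a • r x = r ((1 ⊗ₜ a) * x) by rw [Algebra.smul_def, map_mul, hrM], hg, hg]
      rw [map_mul, map_mul, map_mul, show ι (1 ⊗ₜ a) = 1 ⊗ₜ (algebraMap M L a) from rfl, Algebra.smul_def a l,
        show (1 : F) ⊗ₜ[L₀] (algebraMap M L a * l) = (1 ⊗ₜ (algebraMap M L a)) * (1 ⊗ₜ l) by
          rw [Algebra.TensorProduct.tmul_mul_tmul, one_mul]]
      ring
    let G : E ⊗[M] L →+ F ⊗[L₀] L := TensorProduct.liftAddHom
      (AddMonoidHom.mk' (fun x => (AddMonoidHom.mulLeft (g x)).comp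
        (Algebra.TensorProduct.includeRight : L →ₐ[L₀] F ⊗[L₀] L).toRingHom.toAddMonoidHom)
        (fun x y => by ext l; simp [add_mul]))
      (fun a x l => hgl a x l)
    have hG : ∀ w, G (π w) = ι e * w := by
      intro w
      induction w using TensorProduct.induction_on with
      | zero => simp
      | tmul f l =>
        simp only [π, Algebra.TensorProduct.lift_tmul, jF, jL, AlgHom.comp_apply,
          Algebra.TensorProduct.includeLeft_apply, AlgHom.restrictScalars_apply,
          Algebra.TensorProduct.includeRight_apply, 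
          Algebra.TensorProduct.tmul_mul_tmul, mul_one, one_mul]
        show g (r (f ⊗ₜ 1)) * (1 ⊗ₜ l) = _
        rw [hg]
        rw [map_mul, mul_assoc, show ι (f ⊗ₜ (1 : M)) = f ⊗ₜ (1 : L) by simp [ι],
          Algebra.TensorProduct.tmul_mul_tmul, mul_one, one_mul]
      | add a b ha hb => simp only [map_add, ha, hb, mul_add]
    intro hz
    rw [← hG, hz, map_zero]
  -- the unit group
  have hunit : ∀ y : q.primeCompl, IsUnit (π y) := by
    rintro ⟨y, hy⟩
    by_contra hnu
    obtain ⟨N, hN⟩ : IsNilpotent (π y) := (hdich (π y)).resolve_left hnu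
    rw [← map_pow] at hN
    have := hker _ hN
    exact ((inferInstance : q.IsPrime).mem_or_mem (this ▸ q.zero_mem : ι e * y ^ N ∈ q)).elim heQ
      fun h => hy ((inferInstance : q.IsPrime).mem_of_pow_mem N h)
  have hπsurj : Function.Surjective π := by
    intro w
    induction w using TensorProduct.induction_on with
    | zero => exact ⟨0, map_zero _⟩
    | tmul x l =>
      obtain ⟨s, rfl⟩ := hr x
      refine ⟨ι s * (1 ⊗ₜ l), ?_⟩
      rw [map_mul, hπι]
      simp only [π, Algebra.TensorProduct.lift_tmul, jF, jL, AlgHom.comp_apply,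
        Algebra.TensorProduct.includeLeft_apply, AlgHom.restrictScalars_apply,
        Algebra.TensorProduct.includeRight_apply, map_one, one_mul,
        Algebra.TensorProduct.tmul_mul_tmul, mul_one]
    | add a b ha hb =>
      obtain ⟨a, rfl⟩ := ha
      obtain ⟨b, rfl⟩ := hb
      exact ⟨a + b, map_add _ _ _⟩
  let Φ : Localization.AtPrime q →+* E ⊗[M] L := IsLocalization.lift (g := π.toRingHom) hunit
  have hΦ : ∀ z, Φ (algebraMap _ _ z) = π z := fun z => IsLocalization.lift_eq (g := π.toRingHom) hunit z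
  have hbij : Function.Bijective Φ := by
    refine ⟨(injective_iff_map_eq_zero Φ).mpr fun z hz => ?_, fun w => ?_⟩
    · obtain ⟨⟨a, s⟩, rfl⟩ := IsLocalization.mk'_surjective q.primeCompl z
      rw [IsLocalization.lift_mk', Units.mul_left_eq_zero] at hz
      rw [IsLocalization.mk'_eq_zero_iff]
      exact ⟨⟨ι e, heQ⟩, hker a hz⟩
    · obtain ⟨a, rfl⟩ := hπsurj w
      exact ⟨_, hΦ a⟩
  obtain ⟨n, hn⟩ := hlen p inferInstance
  refine ⟨n, ?_⟩
  rw [← hn]
  exact lengthSelf_congr (RingEquiv.ofBijective Φ hbij)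


/-- The case of a tower `L₀ ⊆ M ⊆ L`, separable then purely inseparable. -/
theorem length_localization_tensor_tower (L₀ F M L : Type u) [Field L₀] [Field F] [Field M] [Field L]
    [Algebra L₀ F] [Algebra L₀ M] [Algebra L₀ L] [Algebra M L] [IsScalarTower L₀ M L]
    [FiniteDimensional L₀ M] [FiniteDimensional M L] [Algebra.IsSeparable L₀ M]
    [IsPurelyInseparable M L] (p : ℕ) [ExpChar L₀ p] (q : Ideal (F ⊗[L₀] L)) [q.IsPrime] :
    ∃ n : ℕ, Module.length (Localization.AtPrime q) (Localization.AtPrime q) = ((p ^ n : ℕ) : ℕ∞) := by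
  haveI : Algebra.FormallyUnramified L₀ M := Algebra.FormallyUnramified.of_isSeparable L₀ M
  haveI : ExpChar M p := expChar_of_injective_ringHom (algebraMap L₀ M).injective p
  let ι : F ⊗[L₀] M →ₐ[L₀] F ⊗[L₀] L :=
    Algebra.TensorProduct.map (AlgHom.id L₀ F) (IsScalarTower.toAlgHom L₀ M L)
  haveI : Module.Finite F (F ⊗[L₀] M) := Module.Finite.base_change L₀ F M
  haveI : IsArtinianRing (F ⊗[L₀] M) := IsArtinianRing.of_finite F (F ⊗[L₀] M)
  haveI : IsReduced (F ⊗[L₀] M) := Algebra.FormallyUnramified.isReduced_of_field F (F ⊗[L₀] M)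
  set Q := q.comap ι with hQ
  haveI : Q.IsPrime := Ideal.IsPrime.comap ι
  haveI : Q.IsMaximal := IsArtinianRing.isMaximal_of_isPrime Q
  -- an element outside `Q` killing `Q`
  have hkill : ∃ e ∉ Q, ∀ x ∈ Q, e * x = 0 := by
    haveI : IsReduced (Localization.AtPrime Q) := isReduced_localizationPreserves Q.primeCompl _ inferInstance
    haveI : IsArtinianRing (Localization.AtPrime Q) :=
      IsArtinianRing.localization_artinian Q.primeCompl _
    have hfield : IsField (Localization.AtPrime Q) := IsArtinianRing.isField_of_isReduced_of_isLocalRing _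
    have hfg : Q.FG := IsNoetherian.noetherian Q
    obtain ⟨s, hs⟩ := hfg
    have hone : ∀ x : F ⊗[L₀] M, x ∈ Q → ∃ e ∉ Q, e * x = 0 := by
      intro x hx
      have h0 : algebraMap _ (Localization.AtPrime Q) x = 0 := by
        by_contra hne
        obtain ⟨y, hy⟩ := hfield.mul_inv_cancel hne
        exact ((IsLocalization.AtPrime.to_map_mem_maximal_iff _ Q x).mpr hx) (IsUnit.of_mul_eq_one _ hy)
      obtain ⟨e, he⟩ := (IsLocalization.map_eq_zero_iff Q.primeCompl _ x).mp h0
      exact ⟨e, e.2, he⟩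
    choose ee hee hee0 using hone
    classical
    refine ⟨∏ x ∈ s.attach, ee x.1 (hs ▸ Ideal.subset_span x.2),
      fun h => ?_, fun x hx => ?_⟩
    · obtain ⟨x, -, hx⟩ := ((inferInstance : Q.IsPrime).prod_mem_iff).mp h
      exact hee _ _ hx
    · rw [← hs] at hx
      induction hx using Submodule.span_induction with
      | mem y hy =>
        obtain ⟨c, hc⟩ := Finset.dvd_prod_of_mem (fun x : s => ee x.1 (hs ▸ Ideal.subset_span x.2))
          (Finset.mem_attach s ⟨y, hy⟩)
        rw [hc, mul_assoc, mul_comm c, ← mul_assoc, hee0, zero_mul]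
      | zero => rw [mul_zero]
      | add a b _ _ ha hb => rw [mul_add, ha, hb, add_zero]
      | smul a b _ hb => rw [smul_eq_mul, mul_left_comm, hb, mul_zero]
  obtain ⟨e, heQ, he⟩ := hkill
  -- the quotient by `Q`
  letI iE : Algebra M ((F ⊗[L₀] M) ⧸ Q) := ((Ideal.Quotient.mk Q).comp
    (Algebra.TensorProduct.includeRight : M →ₐ[L₀] F ⊗[L₀] M).toRingHom).toAlgebra
  haveI : IsScalarTower L₀ M ((F ⊗[L₀] M) ⧸ Q) := IsScalarTower.of_algebraMap_eq fun x => by
    show _ = Ideal.Quotient.mk Q (1 ⊗ₜ[L₀] algebraMap L₀ M x)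
    rw [show (1 : F) ⊗ₜ[L₀] algebraMap L₀ M x = algebraMap L₀ (F ⊗[L₀] M) x from
      ((Algebra.TensorProduct.includeRight : M →ₐ[L₀] F ⊗[L₀] M).commutes x)]
    rfl
  exact length_localization_of_quotient L₀ F M L p q ((F ⊗[L₀] M) ⧸ Q)
    ((Ideal.Quotient.maximal_ideal_iff_isField_quotient Q).mp inferInstance)
    (Ideal.Quotient.mkₐ L₀ Q) (Ideal.Quotient.mkₐ_surjective L₀ Q) (fun _ => rfl) e heQ
    (fun x hx => he x (Ideal.Quotient.eq_zero_iff_mem.mp hx))

/-- `L / L₀` finite, `F / L₀` arbitrary: every local ring of `F ⊗ L` has length a power of the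
exponential characteristic. -/
theorem length_localization_tensor_finite (L₀ F L : Type u) [Field L₀] [Field F] [Field L]
    [Algebra L₀ F] [Algebra L₀ L] [FiniteDimensional L₀ L] (p : ℕ) [ExpChar L₀ p]
    (q : Ideal (F ⊗[L₀] L)) [q.IsPrime] :
    ∃ n : ℕ, Module.length (Localization.AtPrime q) (Localization.AtPrime q) = ((p ^ n : ℕ) : ℕ∞) := by
  haveI : IsPurelyInseparable (separableClosure L₀ L) L := separableClosure.isPurelyInseparable L₀ L
  exact length_localization_tensor_tower L₀ F (separableClosure L₀ L) L p q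

end Groth.Agent.RelCycLib
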