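import Groth.Agent.RelCycLib.FiniteCase

/-!
Lengths of base changed fields at minimal primes are powers of the exponential characteristic.
-/

open TensorProduct

namespace Groth.Agent.RelCycLib

universe u

/-- The tensor product of a purely transcendental extension with a field is a domain. -/
theorem isDomain_tensor_of_isFractionRing (σ : Type u) (k L₀ K : Type u) [Field k] [Field L₀] [Field K]
    [Algebra k L₀] [Algebra k K] (j : MvPolynomial σ k →ₐ[k] L₀)
    (hinj : Function.Injective j) (hsurj : ∀ x, ∃ a s, s ≠ 0 ∧ j a = x * j s) :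
    IsDomain (L₀ ⊗[k] K) := by
  let Fk := FractionRing (MvPolynomial σ K)
  let c : MvPolynomial σ k →ₐ[k] Fk :=
    (IsScalarTower.toAlgHom k (MvPolynomial σ K) Fk).comp
      (MvPolynomial.mapAlgHom (Algebra.ofId k K))
  have hc : Function.Injective c := (IsFractionRing.injective (MvPolynomial σ K) Fk).comp
    (MvPolynomial.map_injective _ (algebraMap k K).injective)
  letI := j.toRingHom.toAlgebra
  haveI : IsScalarTower k (MvPolynomial σ k) L₀ := IsScalarTower.of_algebraMap_eq fun x => (j.commutes x).symm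
  haveI : FaithfulSMul (MvPolynomial σ k) L₀ := (faithfulSMul_iff_algebraMap_injective _ _).mpr hinj
  haveI hfr : IsFractionRing (MvPolynomial σ k) L₀ :=
    IsFractionRing.of_field _ _ fun x => by
      obtain ⟨a, s, hs, has⟩ := hsurj x
      exact ⟨a, s, eq_div_of_mul_eq ((map_ne_zero_iff _ hinj).mpr hs) has.symm⟩
  let φ : L₀ →ₐ[k] Fk := IsFractionRing.liftAlgHom (g := c) hc
  have hφ : ∀ a, φ (j a) = c a := fun a => IsFractionRing.lift_algebraMap hc a
  let Φ : L₀ ⊗[k] K →ₐ[k] Fk :=
    Algebra.TensorProduct.lift φ ((IsScalarTower.toAlgHom k (MvPolynomial σ K) Fk).comp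
      (IsScalarTower.toAlgHom k K (MvPolynomial σ K))) fun a b => mul_comm _ _
  let jK : MvPolynomial σ k ⊗[k] K →ₐ[k] L₀ ⊗[k] K := Algebra.TensorProduct.map j (AlgHom.id k K)
  have hclear : ∀ z : L₀ ⊗[k] K, ∃ s : MvPolynomial σ k, s ≠ 0 ∧ ∃ w, (j s ⊗ₜ[k] (1 : K)) * z = jK w := by
    intro z
    induction z using TensorProduct.induction_on with
    | zero => exact ⟨1, one_ne_zero, 0, by simp⟩
    | tmul x y =>
      obtain ⟨a, s, hs, has⟩ := hsurj x
      refine ⟨s, hs, a ⊗ₜ y, ?_⟩
      simp [jK, has, mul_comm x]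
    | add z₁ z₂ h₁ h₂ =>
      obtain ⟨s₁, hs₁, w₁, e₁⟩ := h₁
      obtain ⟨s₂, hs₂, w₂, e₂⟩ := h₂
      refine ⟨s₁ * s₂, mul_ne_zero hs₁ hs₂, (s₂ ⊗ₜ 1) * w₁ + (s₁ ⊗ₜ 1) * w₂, ?_⟩
      simp only [map_add, map_mul]
      rw [← e₁, ← e₂]
      simp only [jK, Algebra.TensorProduct.map_tmul, AlgHom.id_apply, map_mul, map_one]
      rw [show (j s₁ * j s₂) ⊗ₜ[k] (1 : K) = (j s₁ ⊗ₜ 1) * (j s₂ ⊗ₜ 1) by
        rw [Algebra.TensorProduct.tmul_mul_tmul, mul_one]]
      ring
  have hw : ∀ w, Φ (jK w) = 0 → w = 0 := by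
    intro w hw
    let e : MvPolynomial σ k ⊗[k] K ≃ₐ[k] MvPolynomial σ K :=
      (Algebra.TensorProduct.comm k _ K).trans ((MvPolynomial.algebraTensorAlgEquiv k K).restrictScalars k)
    have he : ∀ w, Φ (jK w) = algebraMap (MvPolynomial σ K) Fk (e w) := by
      intro w
      induction w using TensorProduct.induction_on with
      | zero => simp
      | tmul a b =>
        simp only [Φ, jK, Algebra.TensorProduct.map_tmul, Algebra.TensorProduct.lift_tmul,
          AlgHom.id_apply, hφ]
        simp only [c, AlgHom.comp_apply, IsScalarTower.toAlgHom_apply]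
        rw [← map_mul]
        congr 1
        simp [e, Algebra.smul_def, mul_comm, MvPolynomial.algebraTensorAlgEquiv]
        exact Or.inl rfl
      | add a b ha hb => simp only [map_add, ha, hb]
    rw [he] at hw
    exact e.injective ((IsFractionRing.injective (MvPolynomial σ K) Fk (hw.trans (map_zero _).symm)).trans
      (map_zero e).symm)
  have hΦ : Function.Injective Φ := by
    rw [injective_iff_map_eq_zero]
    intro z hz
    obtain ⟨s, hs, w, hws⟩ := hclear z
    have h0 : w = 0 := hw w (by rw [← hws, map_mul, hz, mul_zero])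
    rw [h0, map_zero] at hws
    have hu : IsUnit (j s ⊗ₜ[k] (1 : K)) :=
      (isUnit_iff_ne_zero.mpr ((map_ne_zero_iff _ hinj).mpr hs)).map
        (Algebra.TensorProduct.includeLeft : L₀ →ₐ[k] L₀ ⊗[k] K)
    exact hu.mul_right_eq_zero.mp hws
  exact hΦ.isDomain Φ.toRingHom

theorem length_atPrime_equiv {A B : Type u} [CommRing A] [CommRing B] (e : A ≃+* B) (q : Ideal B)
    [q.IsPrime] :
    Module.length (Localization.AtPrime (q.comap e)) (Localization.AtPrime (q.comap e)) =
      Module.length (Localization.AtPrime q) (Localization.AtPrime q) :=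
  lengthSelf_congr (IsLocalization.ringEquivOfRingEquiv (M := (q.comap e).primeCompl)
    (T := q.primeCompl) (Localization.AtPrime (q.comap e))
    (Localization.AtPrime q) e (by
      ext x
      constructor
      · rintro ⟨y, hy, rfl⟩
        exact hy
      · intro hx
        refine ⟨e.symm x, ?_, e.apply_symm_apply x⟩
        show ¬ e (e.symm x) ∈ q
        rw [e.apply_symm_apply]
        exact hx))

/-- The case where `L / L₀` is finite and `L₀ ⊗ K` is a domain. -/
theorem length_tensor_pow_expChar_core (k K L₀ L : Type u) [Field k] [Field K] [Field L₀] [Field L]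
    [Algebra k K] [Algebra k L₀] [Algebra k L] [Algebra L₀ L] [IsScalarTower k L₀ L]
    [FiniteDimensional L₀ L] [IsDomain (L₀ ⊗[k] K)] (p : ℕ) [ExpChar k p]
    (q : Ideal (L ⊗[k] K)) [q.IsPrime] (hq : q ∈ minimalPrimes (L ⊗[k] K)) :
    ∃ n : ℕ, Module.length (Localization.AtPrime q) (Localization.AtPrime q) = ((p ^ n : ℕ) : ℕ∞) := by
  let S := L₀ ⊗[k] K
  let F := FractionRing S
  let incK : K →ₐ[k] F := (IsScalarTower.toAlgHom k S F).comp Algebra.TensorProduct.includeRight
  let μ : L ⊗[k] K →ₐ[k] L ⊗[L₀] F :=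
    Algebra.TensorProduct.lift
      ((Algebra.TensorProduct.includeLeft : L →ₐ[L] L ⊗[L₀] F).restrictScalars k)
      (((Algebra.TensorProduct.includeRight : F →ₐ[L₀] L ⊗[L₀] F).restrictScalars k).comp incK)
      fun a b => mul_comm _ _
  let lSF : S →ₐ[L₀] F := IsScalarTower.toAlgHom L₀ S F
  let c : L ⊗[L₀] S ≃ₐ[L] L ⊗[k] K := Algebra.TensorProduct.cancelBaseChange k L₀ L L K
  have hc : ∀ (l : L) (a : L₀) (b : K), c (l ⊗ₜ[L₀] (a ⊗ₜ[k] b)) = (a • l) ⊗ₜ[k] b :=
    fun _ _ _ => rfl
  have hμc : ∀ t, μ (c t) = Algebra.TensorProduct.map (AlgHom.id L₀ L) lSF t := by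
    intro t
    induction t using TensorProduct.induction_on with
    | zero => simp
    | tmul l s =>
      induction s using TensorProduct.induction_on with
      | zero => simp
      | tmul a b =>
        rw [hc]
        simp only [μ, Algebra.TensorProduct.lift_tmul,
          Algebra.TensorProduct.map_tmul, AlgHom.id_apply, incK, AlgHom.comp_apply,
          AlgHom.restrictScalars_apply, Algebra.TensorProduct.includeLeft_apply,
          Algebra.TensorProduct.includeRight_apply, lSF, IsScalarTower.toAlgHom_apply,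
          Algebra.TensorProduct.tmul_mul_tmul, mul_one, one_mul]
        rw [TensorProduct.smul_tmul]
        congr 1
        rw [Algebra.smul_def, IsScalarTower.algebraMap_apply L₀ S F, ← map_mul]
        congr 1
        rw [Algebra.TensorProduct.algebraMap_apply, Algebra.algebraMap_self, RingHom.id_apply]
        show (a ⊗ₜ[k] (1 : K)) * ((1 : L₀) ⊗ₜ[k] b) = _
        rw [Algebra.TensorProduct.tmul_mul_tmul, mul_one, one_mul]
      | add s t hs ht => simp only [TensorProduct.tmul_add, map_add, hs, ht]
    | add s t hs ht => simp only [map_add, hs, ht]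
  have hμinj : Function.Injective μ := by
    intro a b hab
    rw [← c.apply_symm_apply a, ← c.apply_symm_apply b, hμc, hμc] at hab
    exact c.symm.injective (Module.Flat.lTensor_preserves_injective_linearMap (M := L) lSF.toLinearMap
      (IsFractionRing.injective S F) hab)
  let A := Localization.AtPrime q
  let ιS : S →ₐ[k] L ⊗[k] K := Algebra.TensorProduct.map (IsScalarTower.toAlgHom k L₀ L) (AlgHom.id k K)
  have hμι : ∀ s, μ (ιS s) = 1 ⊗ₜ[L₀] algebraMap S F s := by
    intro s
    induction s using TensorProduct.induction_on with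
    | zero => simp
    | tmul a b =>
      rw [show ιS (a ⊗ₜ[k] b) = c ((1 : L) ⊗ₜ[L₀] (a ⊗ₜ[k] b)) by
        rw [hc, Algebra.smul_def, mul_one]; rfl, hμc]
      rfl
    | add s t hs ht => simp only [map_add, hs, ht, TensorProduct.tmul_add]
  -- nonzero elements of `S` are units at `q`
  have hSu : ∀ s : nonZeroDivisors S, IsUnit (algebraMap (L ⊗[k] K) A (ιS s)) := by
    intro s
    refine IsLocalization.map_units A (⟨ιS s, fun hmem => ?_⟩ : q.primeCompl)
    obtain ⟨y, hy0, hy⟩ : ∃ y, y ≠ 0 ∧ ιS s * y = 0 := by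
      by_contra hall
      push Not at hall
      refine Set.disjoint_left.mp (Ideal.disjoint_nonZeroDivisors_of_mem_minimalPrimes hq) hmem
        (mem_nonZeroDivisors_iff_right.mpr fun y hy => ?_)
      by_contra hy0
      exact hall y hy0 (by rw [mul_comm]; exact hy)
    apply hy0
    have h1 := congrArg μ hy
    rw [map_mul, map_zero, hμι] at h1
    have hu : IsUnit ((1 : L) ⊗ₜ[L₀] algebraMap S F (s : S)) :=
      (IsLocalization.map_units F s).map (Algebra.TensorProduct.includeRight : F →ₐ[L₀] L ⊗[L₀] F)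
    exact hμinj ((hu.mul_right_eq_zero.mp h1).trans (map_zero μ).symm)
  let gS : S →+* A := (algebraMap (L ⊗[k] K) A).comp ιS.toRingHom
  let aL : L →ₐ[k] A :=
    (IsScalarTower.toAlgHom k (L ⊗[k] K) A).comp Algebra.TensorProduct.includeLeft
  let gL : L →ₐ[L₀] A := { toRingHom := aL.toRingHom, commutes' := fun a => (IsScalarTower.algebraMap_apply L₀ (L ⊗[k] K) A a).symm }
  let gF : F →ₐ[L₀] A :=
    { toRingHom := IsLocalization.lift (g := gS) hSu
      commutes' := fun a => by
        rw [IsScalarTower.algebraMap_apply L₀ S F]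
        refine (IsLocalization.lift_eq (g := gS) hSu _).trans ?_
        rw [IsScalarTower.algebraMap_apply L₀ (L ⊗[k] K) A]
        show algebraMap (L ⊗[k] K) A (ιS (a ⊗ₜ 1)) = algebraMap (L ⊗[k] K) A (algebraMap L₀ L a ⊗ₜ 1)
        rfl }
  let ν : L ⊗[L₀] F →ₐ[L₀] A := Algebra.TensorProduct.lift gL gF fun a b => mul_comm _ _
  have hgF : ∀ s, gF (algebraMap S F s) = algebraMap (L ⊗[k] K) A (ιS s) :=
    fun s => IsLocalization.lift_eq (g := gS) hSu s
  have hνμ : ∀ z, ν (μ z) = algebraMap (L ⊗[k] K) A z := by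
    intro z
    induction z using TensorProduct.induction_on with
    | zero => simp
    | tmul a b =>
      simp only [μ, Algebra.TensorProduct.lift_tmul, incK, AlgHom.comp_apply,
        AlgHom.restrictScalars_apply, Algebra.TensorProduct.includeLeft_apply,
        Algebra.TensorProduct.includeRight_apply, IsScalarTower.toAlgHom_apply,
        Algebra.TensorProduct.tmul_mul_tmul, mul_one, one_mul, ν]
      rw [hgF]
      show algebraMap (L ⊗[k] K) A (a ⊗ₜ 1) * _ = _
      rw [← map_mul]
      refine congrArg _ ?_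
      show (a ⊗ₜ[k] (1 : K)) * (algebraMap L₀ L 1 ⊗ₜ[k] b) = _
      rw [map_one, Algebra.TensorProduct.tmul_mul_tmul, mul_one, one_mul]
    | add a b ha hb => simp only [map_add, ha, hb]
  let q' : Ideal (L ⊗[L₀] F) := (IsLocalRing.maximalIdeal A).comap ν
  haveI hq'p : q'.IsPrime := Ideal.IsPrime.comap ν
  let Φ : A →+* Localization.AtPrime q' :=
    IsLocalization.lift (g := (algebraMap (L ⊗[L₀] F) (Localization.AtPrime q')).comp μ.toRingHom)
      fun y : q.primeCompl => IsLocalization.map_units (Localization.AtPrime q') (⟨μ y, fun h => by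
        have h' : ν (μ y) ∈ IsLocalRing.maximalIdeal A := h
        rw [hνμ] at h'
        exact y.2 ((IsLocalization.AtPrime.to_map_mem_maximal_iff A q _).mp h')⟩ : q'.primeCompl)
  let Ψ : Localization.AtPrime q' →+* A :=
    IsLocalization.lift (g := ν.toRingHom) fun y : q'.primeCompl => by
      have := y.2
      exact IsLocalRing.notMem_maximalIdeal.mp this
  have hΦ : ∀ z, Φ (algebraMap _ A z) = algebraMap _ _ (μ z) := fun z => IsLocalization.lift_eq _ z
  have hΨ : ∀ z, Ψ (algebraMap _ _ z) = ν z := fun z => IsLocalization.lift_eq _ z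
  have hΦν : ∀ z, Φ (ν z) = algebraMap (L ⊗[L₀] F) _ z := by
    intro z
    induction z using TensorProduct.induction_on with
    | zero => simp
    | tmul a b =>
      simp only [ν, Algebra.TensorProduct.lift_tmul, map_mul]
      have ha : Φ (gL a) = algebraMap (L ⊗[L₀] F) _ (a ⊗ₜ 1) := by
        show Φ (algebraMap (L ⊗[k] K) A (a ⊗ₜ 1)) = _
        rw [hΦ]
        simp [μ, incK]
      have hb : ∀ b, Φ (gF b) = algebraMap (L ⊗[L₀] F) (Localization.AtPrime q') (1 ⊗ₜ b) := by
        have h : Φ.comp gF.toRingHom = (algebraMap (L ⊗[L₀] F) (Localization.AtPrime q')).comp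
            (Algebra.TensorProduct.includeRight : F →ₐ[L₀] L ⊗[L₀] F).toRingHom := by
          refine IsLocalization.ringHom_ext (nonZeroDivisors S) (RingHom.ext fun s => ?_)
          simp only [RingHom.comp_apply]
          erw [hgF, hΦ, hμι]
          rfl
        exact fun b => RingHom.congr_fun h b
      rw [ha, hb, ← map_mul, Algebra.TensorProduct.tmul_mul_tmul, mul_one, one_mul]
    | add a b ha hb => simp only [map_add, ha, hb]
  let e : A ≃+* Localization.AtPrime q' := RingEquiv.ofRingHom Φ Ψ
    (IsLocalization.ringHom_ext q'.primeCompl (RingHom.ext fun z => by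
      show Φ (Ψ _) = _; rw [hΨ, hΦν]; rfl))
    (IsLocalization.ringHom_ext q.primeCompl (RingHom.ext fun z => by
      show Ψ (Φ _) = _; rw [hΦ, hΨ, hνμ]; rfl))
  rw [lengthSelf_congr (A := Localization.AtPrime q) (B := Localization.AtPrime q') e]
  haveI : ExpChar L₀ p := expChar_of_injective_ringHom (algebraMap k L₀).injective p
  let cm : F ⊗[L₀] L ≃+* L ⊗[L₀] F := (Algebra.TensorProduct.comm L₀ F L).toRingEquiv
  rw [← length_atPrime_equiv cm q']
  exact length_localization_tensor_finite L₀ F L p (q'.comap cm)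


theorem length_tensor_pow_expChar (k K L : Type u) [Field k] [Field K] [Field L] [Algebra k K]
    [Algebra k L] (hL : (⊤ : IntermediateField k L).FG) (p : ℕ) [ExpChar k p]
    (q : Ideal (L ⊗[k] K)) [q.IsPrime] (hq : q ∈ minimalPrimes (L ⊗[k] K)) :
    ∃ n : ℕ, Module.length (Localization.AtPrime q) (Localization.AtPrime q) = ((p ^ n : ℕ) : ℕ∞) := by
  obtain ⟨σ, x, hx⟩ := exists_isTranscendenceBasis' k L
  set L₀ := IntermediateField.adjoin k (Set.range x) with hL₀
  haveI halg : Algebra.IsAlgebraic L₀ L := hx.isAlgebraic_field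
  haveI : FiniteDimensional L₀ L := by
    obtain ⟨S, hS⟩ := hL
    have h1 : IntermediateField.adjoin L₀ (S : Set L) = ⊤ := by
      refine IntermediateField.restrictScalars_injective k ?_
      rw [IntermediateField.restrictScalars_top, eq_top_iff, ← hS]
      exact IntermediateField.adjoin_le_iff.mpr fun y hy => IntermediateField.subset_adjoin L₀ _ hy
    haveI : FiniteDimensional L₀ (IntermediateField.adjoin L₀ (S : Set L)) :=
      IntermediateField.finiteDimensional_adjoin fun y _ => (halg.isAlgebraic y).isIntegral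
    rw [h1] at this
    exact LinearEquiv.finiteDimensional (IntermediateField.topEquiv (F := L₀) (E := L)).toLinearEquiv
  let j : MvPolynomial σ k →ₐ[k] L₀ :=
    hx.1.aevalEquivField.toAlgHom.comp (IsScalarTower.toAlgHom k _ (FractionRing (MvPolynomial σ k)))
  haveI hdom : IsDomain (L₀ ⊗[k] K) := by
    refine isDomain_tensor_of_isFractionRing σ k L₀ K j
      (hx.1.aevalEquivField.injective.comp (IsFractionRing.injective _ _)) fun y => ?_
    obtain ⟨a, s, hs, h⟩ := IsFractionRing.div_surjective (A := MvPolynomial σ k)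
      (hx.1.aevalEquivField.symm y)
    refine ⟨a, s, nonZeroDivisors.ne_zero hs, ?_⟩
    have h' := congrArg hx.1.aevalEquivField h
    rw [map_div₀, AlgEquiv.apply_symm_apply,
      div_eq_iff ((map_ne_zero_iff _ hx.1.aevalEquivField.injective).mpr
        (IsFractionRing.to_map_ne_zero_of_mem_nonZeroDivisors hs))] at h'
    exact h'
  exact length_tensor_pow_expChar_core k K L₀ L p q hq

end Groth.Agent.RelCycLib
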