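import Mathlib
import Groth.Prelude.Def_Cyc
import Groth.Agent.RelCycLib.PPower
import Groth.Agent.Codepth5.Field
import Groth.Agent.Triage.CMBC

/-!
Cycles and base change to the perfect closure.
-/

open AlgebraicGeometry CategoryTheory Limits TensorProduct

namespace Groth.Agent.RelCycLib

universe u

theorem minimal_of_purelyInseparable {k K κ : Type u} [Field k] [Field K] [Field κ] [Algebra k K]
    [Algebra k κ] [IsPurelyInseparable k K] (v : Ideal (κ ⊗[k] K)) [v.IsPrime] :
    v ∈ minimalPrimes (κ ⊗[k] K) := by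
  have hh := PrimeSpectrum.isHomeomorph_comap_of_isPurelyInseparable k K κ
  refine ⟨⟨inferInstance, bot_le⟩, fun P hP _ => ?_⟩
  haveI := hP.1
  have h : (⟨P, hP.1⟩ : PrimeSpectrum (κ ⊗[k] K)) = ⟨v, inferInstance⟩ :=
    hh.injective (Subsingleton.elim _ _)
  exact (congrArg PrimeSpectrum.asIdeal h).ge

theorem subsingleton_spec_of_purelyInseparable {k K κ : Type u} [Field k] [Field K] [Field κ]
    [Algebra k K] [Algebra k κ] [IsPurelyInseparable k K] :
    Subsingleton (PrimeSpectrum (κ ⊗[k] K)) :=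
  ⟨fun _ _ => (PrimeSpectrum.isHomeomorph_comap_of_isPurelyInseparable k K κ).injective
    (Subsingleton.elim _ _)⟩

variable {k : Type u} [Field k] {X : Scheme.{u}} (f : X ⟶ Spec (CommRingCat.of k))

/-- The structure map of a residue field. -/
theorem exists_residue_struct [LocallyOfFiniteType f] (x : X) :
    ∃ ψ : k →+* X.residueField x, ψ.EssFiniteType ∧
      Spec.map (CommRingCat.ofHom ψ) = X.fromSpecResidueField x ≫ f := by
  let φ : CommRingCat.of k ⟶ (Spec (CommRingCat.of k)).residueField (f x) :=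
    CommRingCat.ofHom (algebraMap k _) ≫ (Scheme.Spec.residueFieldIso (CommRingCat.of k) (f x)).inv
  have hφ : Function.Surjective φ.hom := by
    have h1 : Function.Surjective (algebraMap k ((f x).asIdeal.ResidueField)) := by
      haveI : (f x).asIdeal.IsMaximal := by
        have hbot : (f x).asIdeal = ⊥ := (Ideal.eq_bot_or_top (f x).asIdeal).resolve_right
          (Ideal.IsPrime.ne_top inferInstance)
        rw [hbot]
        exact Ideal.bot_isMaximal
      rw [IsScalarTower.algebraMap_eq k (k ⧸ (f x).asIdeal)]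
      exact (f x).asIdeal.bijective_algebraMap_quotient_residueField.surjective.comp
        Ideal.Quotient.mk_surjective
    exact (Scheme.Spec.residueFieldIso (CommRingCat.of k) (f x)).commRingCatIsoToRingEquiv.symm.surjective.comp h1
  refine ⟨(φ ≫ f.residueFieldMap x).hom, ?_, ?_⟩
  · exact (RingHom.FiniteType.of_surjective _ hφ).essFiniteType.comp
      (Triage.CMBC.essFiniteType_residueFieldMap f x)
  · show Spec.map (φ ≫ f.residueFieldMap x) = _
    rw [Spec.map_comp, ← Scheme.Hom.SpecMap_residueFieldMap_fromSpecResidueField f x]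
    congr 1
    simp only [φ, Spec.map_comp]
    exact Scheme.Spec.map_residueFieldIso_inv_eq_fromSpecResidueField (CommRingCat.of k) (f x)

variable {K : Type u} [Field K] [Algebra k K]

/-- The projection of the base change. -/
noncomputable abbrev bcπ : pullback f (Spec.map (CommRingCat.ofHom (algebraMap k K))) ⟶ X :=
  pullback.fst f (Spec.map (CommRingCat.ofHom (algebraMap k K)))

theorem exists_fibre_iso [LocallyOfFiniteType f] (x : X) :
    ∃ (ψ : k →+* X.residueField x), ψ.EssFiniteType ∧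
      (letI := ψ.toAlgebra
       Nonempty ((bcπ f (K := K)).fiber x ≅ Spec (CommRingCat.of ((X.residueField x) ⊗[k] K)))) := by
  obtain ⟨ψ, hψ, hmap⟩ := exists_residue_struct f x
  refine ⟨ψ, hψ, ?_⟩
  letI := ψ.toAlgebra
  exact ⟨pullbackSymmetry _ _ ≪≫
    pullbackRightPullbackFstIso f (Spec.map (CommRingCat.ofHom (algebraMap k K))) (X.fromSpecResidueField x) ≪≫
    pullback.congrHom hmap.symm rfl ≪≫ pullbackSpecIso k (X.residueField x) K⟩

theorem fibre_eq [IsPurelyInseparable k K] [LocallyOfFiniteType f]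
    (a b : (pullback f (Spec.map (CommRingCat.ofHom (algebraMap k K))) : Scheme.{u}))
    (h : bcπ f a = bcπ f b) : a = b := by
  obtain ⟨ψ, -, ⟨e⟩⟩ := exists_fibre_iso f (K := K) (bcπ f a)
  letI := ψ.toAlgebra
  haveI := subsingleton_spec_of_purelyInseparable (k := k) (K := K) (κ := X.residueField (bcπ f a))
  have hinj : Function.Injective e.hom.base := (Scheme.homeoOfIso e).injective
  obtain ⟨w, hw⟩ : ∃ w, (bcπ f).fiberι (bcπ f a) w = b := by
    have : b ∈ Set.range ((bcπ f).fiberι (bcπ f a)) := by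
      rw [Scheme.Hom.range_fiberι]; exact h.symm
    exact this
  obtain ⟨v, hv⟩ : ∃ v, (bcπ f).fiberι (bcπ f a) v = a := ⟨_, (bcπ f).fiberι_asFiber a⟩
  have hvw := hinj (Subsingleton.elim (α := PrimeSpectrum _) (e.hom.base v) (e.hom.base w))
  exact hv.symm.trans ((congrArg _ hvw).trans hw)

theorem exists_preimage [LocallyOfFiniteType f] (x : X) :
    ∃ a : (pullback f (Spec.map (CommRingCat.ofHom (algebraMap k K))) : Scheme.{u}), bcπ f a = x := by
  obtain ⟨z, hz, -⟩ := Scheme.Pullback.exists_preimage_pullback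
    (f := f) (g := Spec.map (CommRingCat.ofHom (algebraMap k K))) x
    (⟨⊥, Ideal.isPrime_bot⟩ : PrimeSpectrum K) (Subsingleton.elim (α := PrimeSpectrum k) _ _)
  exact ⟨z, hz⟩

/-- The multiplicity of the base change at a point is a power of the exponential characteristic. -/
theorem exists_fibre_length [IsPurelyInseparable k K] [LocallyOfFiniteType f] (p : ℕ) [ExpChar k p]
    (a : (pullback f (Spec.map (CommRingCat.ofHom (algebraMap k K))) : Scheme.{u})) :
    ∃ n : ℕ, Module.length ((pullback f (Spec.map (CommRingCat.ofHom (algebraMap k K)))).presheaf.stalk a)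
      ((pullback f (Spec.map (CommRingCat.ofHom (algebraMap k K)))).presheaf.stalk a ⧸
        Ideal.map ((bcπ f (K := K)).stalkMap a).hom
          (IsLocalRing.maximalIdeal (X.presheaf.stalk (bcπ f a)))) = ((p ^ n : ℕ) : ℕ∞) := by
  obtain ⟨ψ, hψ, ⟨e⟩⟩ := exists_fibre_iso f (K := K) (bcπ f a)
  letI := ψ.toAlgebra
  set κ := X.residueField (bcπ f a)
  haveI : Algebra.EssFiniteType k κ := hψ
  have hfg : (⊤ : IntermediateField k κ).FG := IntermediateField.fg_top k κ
  obtain ⟨E⟩ := Codepth5.nonempty_fibre_stalk_equiv (bcπ f) a _ _ ((bcπ f).fiberι_asFiber a)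
  let w := (bcπ f).asFiber a
  let v : PrimeSpectrum (κ ⊗[k] K) := e.hom.base w
  obtain ⟨n, hn⟩ := length_tensor_pow_expChar k K κ hfg p v.asIdeal
    (minimal_of_purelyInseparable v.asIdeal)
  refine ⟨n, ?_⟩
  refine (Module.length_eq_of_surjective
    (R := (pullback f (Spec.map (CommRingCat.ofHom (algebraMap k K)))).presheaf.stalk a ⧸
      Ideal.map ((bcπ f (K := K)).stalkMap a).hom
          (IsLocalRing.maximalIdeal (X.presheaf.stalk (bcπ f a))))
    (S := (pullback f (Spec.map (CommRingCat.ofHom (algebraMap k K)))).presheaf.stalk a)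
    (M := (pullback f (Spec.map (CommRingCat.ofHom (algebraMap k K)))).presheaf.stalk a ⧸
      Ideal.map ((bcπ f (K := K)).stalkMap a).hom
          (IsLocalRing.maximalIdeal (X.presheaf.stalk (bcπ f a)))) Ideal.Quotient.mk_surjective).trans ?_
  refine (lengthSelf_congr E).trans ?_
  refine (lengthSelf_congr ((asIso (e.hom.stalkMap w)).commRingCatIsoToRingEquiv.symm.trans
    (Spec.stalkIso (CommRingCat.of (κ ⊗[k] K)) v).commRingCatIsoToRingEquiv)).trans hn

/-- The residue fields of the base change are algebraic over those downstairs. -/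
theorem isAlgebraic_residueFieldMap {A B : Scheme.{u}} (g : A ⟶ B) [IsIntegralHom g] (a : A) :
    letI := (g.residueFieldMap a).hom.toAlgebra
    Algebra.IsAlgebraic (B.residueField (g a)) (A.residueField a) := by
  letI := (g.residueFieldMap a).hom.toAlgebra
  obtain ⟨U, hU, hgU, -⟩ := exists_isAffineOpen_mem_and_subset (U := (⊤ : B.Opens)) (x := g a) trivial
  have hV : IsAffineOpen (g ⁻¹ᵁ U) := hU.preimage g
  have hint : ∀ s, IsIntegral (B.residueField (g a)) (A.evaluation (g ⁻¹ᵁ U) a hgU s) := by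
    intro s
    obtain ⟨P, hP, hPs⟩ := g.isIntegral_app U hU s
    refine ⟨P.map (B.evaluation U (g a) hgU).hom, hP.map _, ?_⟩
    rw [Polynomial.eval₂_map]
    have hc : (algebraMap (B.residueField (g a)) (A.residueField a)).comp (B.evaluation U (g a) hgU).hom =
        (A.evaluation (g ⁻¹ᵁ U) a hgU).hom.comp (g.app U).hom :=
      congrArg CommRingCat.Hom.hom (Scheme.evaluation_naturality g a hgU)
    rw [hc, ← Polynomial.hom_eval₂, hPs, map_zero]
  refine ⟨fun z => ?_⟩
  obtain ⟨t, rfl⟩ := A.residue_surjective a z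
  letI := A.presheaf.algebra_section_stalk (⟨a, hgU⟩ : (g ⁻¹ᵁ U : A.Opens))
  haveI := hV.isLocalization_stalk (⟨a, hgU⟩ : (g ⁻¹ᵁ U : A.Opens))
  obtain ⟨⟨s₁, s₂⟩, h⟩ := IsLocalization.mk'_surjective (hV.primeIdealOf (⟨a, hgU⟩ : (g ⁻¹ᵁ U : A.Opens))).asIdeal.primeCompl t
  have hu : IsUnit (algebraMap Γ(A, g ⁻¹ᵁ U) (A.presheaf.stalk a) (s₂ : Γ(A, g ⁻¹ᵁ U))) :=
    IsLocalization.map_units _ s₂
  have h1 : t * algebraMap Γ(A, g ⁻¹ᵁ U) (A.presheaf.stalk a) (s₂ : Γ(A, g ⁻¹ᵁ U)) =
      algebraMap Γ(A, g ⁻¹ᵁ U) (A.presheaf.stalk a) s₁ := by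
    rw [← h]; exact IsLocalization.mk'_spec _ _ _
  have h2 := congrArg (A.residue a).hom h1
  rw [map_mul] at h2
  have e2 : (A.residue a).hom t = (A.evaluation (g ⁻¹ᵁ U) a hgU s₁) *
      (A.evaluation (g ⁻¹ᵁ U) a hgU (s₂ : Γ(A, g ⁻¹ᵁ U)))⁻¹ := by
    have hev : ∀ z, A.evaluation (g ⁻¹ᵁ U) a hgU z =
        (A.residue a).hom (algebraMap Γ(A, g ⁻¹ᵁ U) (A.presheaf.stalk a) z) := fun _ => rfl
    rw [hev, hev, eq_mul_inv_iff_mul_eq₀ ((hu.map (A.residue a).hom).ne_zero)]
    exact h2
  show IsAlgebraic _ ((A.residue a).hom t)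
  rw [e2]
  exact (hint s₁).isAlgebraic.mul (hint _).isAlgebraic.inv

/-- The transcendence degree of the residue extension at a point. -/
noncomputable def rtd {A B : Scheme.{u}} (g : A ⟶ B) (a : A) : Cardinal.{u} :=
  letI := (g.residueFieldMap a).hom.toAlgebra
  Algebra.trdeg (B.residueField (g a)) (A.residueField a)

theorem rtd_comp {A B C : Scheme.{u}} (g : A ⟶ B) (h : B ⟶ C) (a : A) :
    rtd (g ≫ h) a = rtd h (g a) + rtd g a := by
  letI := (h.residueFieldMap (g a)).hom.toAlgebra
  letI := (g.residueFieldMap a).hom.toAlgebra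
  letI i3 : Algebra (C.residueField (h (g a))) (A.residueField a) :=
    ((g.residueFieldMap a).hom.comp (h.residueFieldMap (g a)).hom).toAlgebra
  haveI : IsScalarTower (C.residueField (h (g a))) (B.residueField (g a)) (A.residueField a) :=
    IsScalarTower.of_algebraMap_eq fun _ => rfl
  rw [rtd, rtd, rtd, trdeg_add_eq]
  have he : ((g ≫ h).residueFieldMap a).hom.toAlgebra = i3 := by
    refine Algebra.algebra_ext _ _ fun r => ?_
    show ((g ≫ h).residueFieldMap a).hom r = _
    rw [Scheme.residueFieldMap_comp]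
    rfl
  exact congrArg (fun i => @Algebra.trdeg (C.residueField (h (g a))) (A.residueField a) _ _ i) he

theorem rtd_eq_zero {A B : Scheme.{u}} (g : A ⟶ B) [IsIntegralHom g] (a : A) : rtd g a = 0 := by
  letI := (g.residueFieldMap a).hom.toAlgebra
  haveI := isAlgebraic_residueFieldMap g a
  exact trdeg_eq_zero

theorem delta_eq [IsPurelyInseparable k K] (δ : X → ℤ) (hδ : Cyc.DeltaCompat f δ (fun _ => 0))
    (δ' : (pullback f (Spec.map (CommRingCat.ofHom (algebraMap k K))) : Scheme.{u}) → ℤ)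
    (hδ' : Cyc.DeltaCompat (pullback.snd f (Spec.map (CommRingCat.ofHom (algebraMap k K)))) δ' (fun _ => 0))
    (a : (pullback f (Spec.map (CommRingCat.ofHom (algebraMap k K))) : Scheme.{u})) :
    δ' a = δ (bcπ f a) := by
  obtain ⟨n, hn, hδn⟩ := hδ (bcπ f a)
  obtain ⟨n', hn', hδn'⟩ := hδ' a
  haveI : IsIntegralHom (Spec.map (CommRingCat.ofHom (algebraMap k K))) := by
    rw [IsIntegralHom.SpecMap_iff]
    exact algebraMap_isIntegral_iff.mpr inferInstance
  haveI : IsIntegralHom (bcπ f (K := K)) := inferInstanceAs (IsIntegralHom (pullback.fst f _))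
  have h : rtd (bcπ f ≫ f) a = rtd (pullback.snd f (Spec.map (CommRingCat.ofHom (algebraMap k K))) ≫
      Spec.map (CommRingCat.ofHom (algebraMap k K))) a := by rw [pullback.condition]
  rw [rtd_comp, rtd_comp, rtd_eq_zero (bcπ f), rtd_eq_zero (Spec.map (CommRingCat.ofHom (algebraMap k K))), add_zero, zero_add] at h
  have hnn : n = n' := by
    have h1 : rtd f (bcπ f a) = (n : Cardinal) := hn
    have h2 : rtd (pullback.snd f (Spec.map (CommRingCat.ofHom (algebraMap k K)))) a = (n' : Cardinal) := hn'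
    rw [h1, h2] at h
    exact_mod_cast h
  simp only at hδn hδn'
  omega

/-- A `p`-power multiple of every cycle on the base change comes from a cycle downstairs. -/
theorem exists_pull_eq [IsPurelyInseparable k K] [LocallyOfFiniteType f] [QuasiCompact f] (p : ℕ)
    [ExpChar k p] (δ : X → ℤ) (hδ : Cyc.DeltaCompat f δ (fun _ => 0))
    (δ' : (pullback f (Spec.map (CommRingCat.ofHom (algebraMap k K))) : Scheme.{u}) → ℤ)
    (hδ' : Cyc.DeltaCompat (pullback.snd f (Spec.map (CommRingCat.ofHom (algebraMap k K)))) δ' (fun _ => 0))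
    (r : ℤ) (β : AlgebraicCycle (pullback f (Spec.map (CommRingCat.ofHom (algebraMap k K)))) ℤ)
    (hβ : β ∈ Cyc.Zk _ δ' r) :
    ∃ (n : ℕ) (α : AlgebraicCycle X ℤ), α ∈ Cyc.Zk X δ r ∧
      (p : ℤ) ^ n • ⇑β = Cyc.pullFun (pullback.fst f (Spec.map (CommRingCat.ofHom (algebraMap k K))))
        δ' δ 0 ⇑α := by
  classical
  haveI : CompactSpace (pullback f (Spec.map (CommRingCat.ofHom (algebraMap k K))) : Scheme.{u}) :=
    QuasiCompact.compactSpace_of_compactSpace
      (pullback.snd f (Spec.map (CommRingCat.ofHom (algebraMap k K))))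
  have hfin : (Function.support ⇑β).Finite := by
    have hloc : ∀ z, ∃ t ∈ nhds z, (t ∩ Function.support ⇑β).Finite := fun z =>
      β.supportLocallyFiniteWithinDomain' z trivial
    choose t ht htf using hloc
    obtain ⟨F, -, hF⟩ := isCompact_univ.elim_nhds_subcover t fun z _ => ht z
    refine ((F.finite_toSet.biUnion fun z _ => htf z)).subset fun z hz => ?_
    have := hF (Set.mem_univ z)
    simp only [Set.mem_iUnion] at this ⊢
    obtain ⟨w, hw, hzw⟩ := this
    exact ⟨w, hw, hzw, hz⟩
  choose m hm using exists_fibre_length f (K := K) p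
  choose s hs using exists_preimage f (K := K)
  let N := hfin.toFinset.sup m
  let af : X → ℤ := fun x => β (s x) * (p : ℤ) ^ (N - m (s x))
  have haf : (Function.support af).Finite := by
    refine (hfin.image (bcπ f)).subset fun x hx => ⟨s x, ?_, hs x⟩
    intro h0
    exact hx (by simp [af, h0])
  refine ⟨N, ⟨af, Set.subset_univ _, fun x _ => ⟨Set.univ, Filter.univ_mem, ?_⟩⟩, ?_, ?_⟩
  · rw [Set.univ_inter]; exact haf
  · intro x hx
    show af x = 0
    have h0 : β (s x) = 0 := hβ (s x) (by rw [delta_eq f δ hδ δ' hδ', hs]; exact hx)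
    simp [af, h0]
  · funext a
    show (p : ℤ) ^ N * β a = _
    have hsa : s (bcπ f a) = a := fibre_eq f _ _ (hs _)
    rw [Cyc.pullFun, if_pos (by rw [delta_eq f δ hδ δ' hδ', add_zero]), hm a, ENat.toNat_coe]
    show _ = β (s (bcπ f a)) * (p : ℤ) ^ (N - m (s (bcπ f a))) * _
    rw [hsa, Nat.cast_pow, mul_assoc, ← pow_add]
    by_cases h0 : β a = 0
    · rw [h0, mul_zero, zero_mul]
    · rw [Nat.sub_add_cancel (Finset.le_sup (f := m) (hfin.mem_toFinset.mpr h0)), mul_comm]

end Groth.Agent.RelCycLib
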